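import Mathlib
import Groth.Agent.FibreDepth.RegSmooth
import Groth.Agent.EtaleLocal.Basic
import Groth.Agent.Locus.FiberCriterion

/-!
A finitely generated algebra over a field is smooth at a prime whose local rings stay regular
after every finite extension of the field.
-/

set_option autoImplicit false
set_option backward.isDefEq.respectTransparency false
set_option linter.style.haveILetI false
universe u

open TensorProduct

attribute [local instance] Algebra.TensorProduct.rightAlgebra

namespace Groth.Agent.GeomReg.Smooth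

theorem exists_finite_level {k B Ω : Type u} [Field k] [CommRing B] [Algebra k B] [Field Ω]
    [Algebra k Ω] [Algebra.IsAlgebraic k Ω] (s : Finset (Ω ⊗[k] B)) :
    ∃ K : IntermediateField k Ω, FiniteDimensional k K ∧
      ∀ x ∈ s, x ∈ Set.range (Algebra.TensorProduct.map K.val (AlgHom.id k B)) := by
  classical
  have key : ∀ x : Ω ⊗[k] B, ∃ t : Finset Ω, ∀ K : IntermediateField k Ω, (↑t ⊆ (K : Set Ω)) →
      x ∈ Set.range (Algebra.TensorProduct.map K.val (AlgHom.id k B)) := by
    intro x
    induction x using TensorProduct.induction_on with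
    | zero => exact ⟨∅, fun K _ => ⟨0, map_zero _⟩⟩
    | tmul a b =>
      refine ⟨{a}, fun K hK => ⟨(⟨a, hK (by simp)⟩ : K) ⊗ₜ b, ?_⟩⟩
      simp
    | add x y hx hy =>
      obtain ⟨t, ht⟩ := hx
      obtain ⟨t', ht'⟩ := hy
      refine ⟨t ∪ t', fun K hK => ?_⟩
      rw [Finset.coe_union, Set.union_subset_iff] at hK
      obtain ⟨x', rfl⟩ := ht K hK.1
      obtain ⟨y', rfl⟩ := ht' K hK.2
      exact ⟨x' + y', map_add _ _ _⟩
  choose t ht using key
  refine ⟨IntermediateField.adjoin k ↑(s.biUnion t), ?_, fun x hx => ht x _ ?_⟩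
  · exact IntermediateField.finiteDimensional_adjoin fun a _ => Algebra.IsIntegral.isIntegral a
  · exact fun a ha => IntermediateField.subset_adjoin k _
      (Finset.coe_subset.mpr (Finset.subset_biUnion_of_mem t hx) ha)

variable {k B : Type u} [Field k] [CommRing B] [Algebra k B] [Algebra.FiniteType k B]

/-- If all points above `q` after finite extensions of `k` (inside an algebraic closure) have regular
local rings, then `B` is smooth at `q`. -/
theorem isSmoothAt_of_regular (q : Ideal B) [q.IsPrime]
    (H : ∀ (K : Type u) [Field K] [Algebra k K] [FiniteDimensional k K]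
      (q' : Ideal (K ⊗[k] B)) [q'.IsPrime],
      q'.comap Algebra.TensorProduct.includeRight.toRingHom = q →
        IsRegularLocalRing (Localization.AtPrime q')) :
    Algebra.IsSmoothAt k q := by
  classical
  let Ω := AlgebraicClosure k
  have hB : Algebra.FinitePresentation k B := Algebra.FinitePresentation.of_finiteType.mp inferInstance
  obtain ⟨Q, hQp, hQ⟩ := Ideal.exists_isPrime_liesOver_of_faithfullyFlat (B := B ⊗[k] Ω) q
  let e : (Ω ⊗[k] B) ≃ₐ[k] (B ⊗[k] Ω) := Algebra.TensorProduct.comm k Ω B
  let q'' : Ideal (Ω ⊗[k] B) := Q.comap e.toAlgHom.toRingHom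
  have hq'' : q''.comap (Algebra.TensorProduct.includeRight : B →ₐ[k] Ω ⊗[k] B).toRingHom = q := by
    rw [hQ.over, Ideal.under_def]
    ext b
    simp [q'', e, Ideal.mem_comap]
  haveI : q''.IsPrime := inferInstance
  haveI : IsNoetherianRing (Ω ⊗[k] B) := Algebra.FiniteType.isNoetherianRing Ω (Ω ⊗[k] B)
  obtain ⟨s, hs⟩ := IsNoetherian.noetherian q''
  obtain ⟨K, hKfin, hKs⟩ := exists_finite_level s
  haveI := hKfin
  letI : Field K := K.toField
  letI : CommRing (K ⊗[k] B) := Algebra.TensorProduct.instCommRing
  haveI : IsNoetherianRing (K ⊗[k] B) := Algebra.FiniteType.isNoetherianRing K (K ⊗[k] B)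
  let φ : (K ⊗[k] B) →ₐ[k] (Ω ⊗[k] B) := Algebra.TensorProduct.map K.val (AlgHom.id k B)
  let q' : Ideal (K ⊗[k] B) := q''.comap φ.toRingHom
  haveI : q'.IsPrime := inferInstance
  have hmap : q'.map φ.toRingHom = q'' := by
    refine le_antisymm Ideal.map_comap_le ?_
    rw [← hs, Submodule.span_le]
    intro x hx
    obtain ⟨y, rfl⟩ := hKs x hx
    refine Ideal.mem_map_of_mem _ ?_
    show φ y ∈ q''
    rw [← hs]
    exact Submodule.subset_span hx
  have hreg : IsRegularLocalRing (Localization.AtPrime q') := by
    refine H K q' ?_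
    rw [← hq'']
    ext b
    simp [q', φ, Ideal.mem_comap]
  let g := Localization.localRingHom q' q'' φ.toRingHom rfl
  have hφ : φ.Flat := RingHom.Flat.tensorProductMap
    (RingHom.Flat.of_isField (Field.toIsField K) _) (RingHom.Flat.of_bijective Function.bijective_id)
  letI := g.toAlgebra
  haveI : Module.Flat (Localization.AtPrime q') (Localization.AtPrime q'') :=
    RingHom.Flat.localRingHom hφ q'' q' rfl
  haveI : IsLocalHom (algebraMap (Localization.AtPrime q') (Localization.AtPrime q'')) :=
    Localization.isLocalHom_localRingHom q' q'' φ.toRingHom rfl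
  have hm : (IsLocalRing.maximalIdeal (Localization.AtPrime q')).map
      (algebraMap (Localization.AtPrime q') (Localization.AtPrime q'')) =
      IsLocalRing.maximalIdeal (Localization.AtPrime q'') := by
    rw [← Localization.AtPrime.map_eq_maximalIdeal, ← Localization.AtPrime.map_eq_maximalIdeal,
      Ideal.map_map, ← congrArg (Ideal.map (algebraMap (Ω ⊗[k] B) (Localization.AtPrime q''))) hmap,
      Ideal.map_map]
    congr 1
    refine RingHom.ext fun x => ?_
    exact Localization.localRingHom_to_map q' q'' φ.toRingHom rfl x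
  haveI hreg'' : IsRegularLocalRing (Localization.AtPrime q'') :=
    (Groth.Agent.EtaleLocal.Basic.isRegularLocalRing_iff hm).mp hreg
  have hsm : Algebra.IsSmoothAt Ω q'' :=
    (FibreDepth.RegSmooth.isSmoothAt_iff_regular_of_perfect q'').mpr hreg''
  haveI : q''.LiesOver q := ⟨hq''.symm⟩
  exact Locus.FiberCriterion.isSmoothAt_of_flat_of_field q'' q inferInstance hsm

end Groth.Agent.GeomReg.Smooth
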