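import Mathlib
import Groth.Agent.GeomReg.Smooth

/-!
Points of schemes locally of finite type over a field whose preimages after finite extensions
have regular local rings are smooth points.
-/

set_option autoImplicit false
set_option backward.isDefEq.respectTransparency false
set_option linter.style.haveILetI false
universe u

open CategoryTheory CategoryTheory.Limits AlgebraicGeometry TensorProduct

namespace Groth.Agent.GeomReg.Scheme

theorem mem_smoothLocus_of_regular {k : Type u} [Field k] {X : Scheme.{u}}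
    (f : X ⟶ Spec (CommRingCat.of k)) [LocallyOfFinitePresentation f] (x : X)
    (H : ∀ (K : Type u) [Field K] [Algebra k K] [FiniteDimensional k K]
      (x' : (pullback f (Spec.map (CommRingCat.ofHom (algebraMap k K))) : Scheme.{u})),
      pullback.fst f (Spec.map (CommRingCat.ofHom (algebraMap k K))) x' = x →
        IsRegularLocalRing ((pullback f (Spec.map (CommRingCat.ofHom (algebraMap k K)))).presheaf.stalk x')) :
    x ∈ f.smoothLocus := by
  obtain ⟨_, ⟨V, hV, rfl⟩, hxV, -⟩ :=
    X.isBasis_affineOpens.exists_subset_of_mem_open (Set.mem_univ x) isOpen_univ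
  have hVU : V ≤ f ⁻¹ᵁ ⊤ := le_top
  let B := Γ(X, V)
  let ρ : k →+* B := ((Scheme.ΓSpecIso (CommRingCat.of k)).inv ≫ f.appLE ⊤ V hVU).hom
  letI := ρ.toAlgebra
  have hf : hV.fromSpec ≫ f = Spec.map (CommRingCat.ofHom (algebraMap k B)) := by
    rw [← IsAffineOpen.SpecMap_appLE_fromSpec f (isAffineOpen_top _) hV hVU,
      IsAffineOpen.fromSpec_top, Scheme.isoSpec_Spec_inv, ← Spec.map_comp]
    rfl
  have hft : (f.appLE ⊤ V hVU).hom.FinitePresentation :=
    f.finitePresentation_appLE (isAffineOpen_top _) hV hVU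
  haveI : Algebra.FinitePresentation k B :=
    RingHom.finitePresentation_algebraMap.mp
      ((RingHom.finitePresentation_respectsIso.cancel_left_isIso _ _).mpr hft)
  let q := (hV.primeIdealOf ⟨x, hxV⟩).asIdeal
  have hsm : Algebra.IsSmoothAt k q := by
    refine Smooth.isSmoothAt_of_regular q fun K _ _ _ q' _ hq' => ?_
    let q₂ : Ideal (B ⊗[k] K) := q'.comap (Algebra.TensorProduct.comm k B K).toAlgHom.toRingHom
    haveI : q₂.IsPrime := inferInstance
    let z : Spec (CommRingCat.of (B ⊗[k] K)) := ⟨q₂, inferInstance⟩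
    let g := Spec.map (CommRingCat.ofHom (algebraMap k K))
    let j := pullback.map (Spec.map (CommRingCat.ofHom (algebraMap k B))) g f g hV.fromSpec
      (𝟙 _) (𝟙 _) (by rw [Category.comp_id, hf]) (by rw [Category.comp_id, Category.id_comp])
    let Φ : Spec (CommRingCat.of (B ⊗[k] K)) ⟶ pullback f g := (pullbackSpecIso k B K).inv ≫ j
    have hΦ : Φ ≫ pullback.fst f g =
        Spec.map (CommRingCat.ofHom Algebra.TensorProduct.includeLeftRingHom) ≫ hV.fromSpec := by
      rw [Category.assoc, pullback.lift_fst, ← Category.assoc, pullbackSpecIso_inv_fst]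
    have hz : pullback.fst f g (Φ z) = x := by
      rw [← Scheme.Hom.comp_apply, hΦ, Scheme.Hom.comp_apply]
      have : Spec.map (CommRingCat.ofHom
          (Algebra.TensorProduct.includeLeftRingHom : B →+* B ⊗[k] K)) z =
          hV.primeIdealOf ⟨x, hxV⟩ := by
        refine PrimeSpectrum.ext ?_
        show q₂.comap _ = q
        rw [← hq']
        ext b
        simp only [q₂, Ideal.mem_comap]
        show (Algebra.TensorProduct.comm k B K) (b ⊗ₜ[k] (1 : K)) ∈ q' ↔ _
        rw [Algebra.TensorProduct.comm_tmul]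
        rfl
      rw [this]
      exact hV.fromSpec_primeIdealOf ⟨x, hxV⟩
    haveI := H K (Φ z) hz
    haveI : IsOpenImmersion Φ := inferInstance
    haveI : IsRegularLocalRing ((Spec (CommRingCat.of (B ⊗[k] K))).presheaf.stalk z) :=
      IsRegularLocalRing.of_ringEquiv (asIso (Φ.stalkMap z)).commRingCatIsoToRingEquiv
    haveI : IsLocalization q₂.primeCompl ((Spec.structureSheaf (B ⊗[k] K)).presheaf.stalk z) :=
      StructureSheaf.IsLocalization.to_stalk (B ⊗[k] K) z
    let e₁ : Localization.AtPrime q₂ ≃+* (Spec (CommRingCat.of (B ⊗[k] K))).presheaf.stalk z :=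
      (IsLocalization.algEquiv q₂.primeCompl (Localization.AtPrime q₂)
        ((Spec.structureSheaf (B ⊗[k] K)).presheaf.stalk z)).toRingEquiv
    haveI : IsRegularLocalRing (Localization.AtPrime q₂) := IsRegularLocalRing.of_ringEquiv e₁.symm
    exact IsRegularLocalRing.of_ringEquiv (Localization.localAlgEquiv q₂ q'
      (Algebra.TensorProduct.comm k B K) rfl).toRingEquiv
  refine (AlgebraicGeometry.formallySmooth_stalkMap_iff (f := f) ⊤ (isAffineOpen_top _) V hV hVU hxV).mpr ?_
  letI := (f.appLE ⊤ V hVU).hom.toAlgebra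
  show Algebra.FormallySmooth Γ(Spec (CommRingCat.of k), ⊤) (Localization.AtPrime q)
  have hsm' : Algebra.FormallySmooth k (Localization.AtPrime q) := hsm
  rw [← RingHom.formallySmooth_algebraMap] at hsm' ⊢
  rw [IsScalarTower.algebraMap_eq k B (Localization.AtPrime q)] at hsm'
  rw [IsScalarTower.algebraMap_eq Γ(Spec (CommRingCat.of k), ⊤) B (Localization.AtPrime q)]
  exact (RingHom.FormallySmooth.respectsIso.cancel_left_isIso (Scheme.ΓSpecIso (CommRingCat.of k)).inv
    (f.appLE ⊤ V hVU ≫ CommRingCat.ofHom (algebraMap B (Localization.AtPrime q)))).mp hsm'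

end Groth.Agent.GeomReg.Scheme
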